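import Groth.Agent.GalCd5.Split
import Groth.Agent.EtFound.TorsionInd
import Groth.Agent.EtFound.Strata
import Groth.Agent.EtLim8.Res
import Groth.Agent.EtLC12.QcqsAcyclic
import Groth.Prelude.Def_EtDepth

/-! a field of cohomological dimension `n` has a finite separable extension with non-vanishing top cohomology -/

set_option autoImplicit false
set_option linter.unusedSectionVars false
set_option linter.style.haveILetI false
set_option backward.isDefEq.respectTransparency false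
set_option backward.isDefEq.respectTransparency.types false

universe u

open CategoryTheory CategoryTheory.Limits AlgebraicGeometry Opposite Abelian

noncomputable section

namespace Groth.Agent.GalCd5

open Groth.Agent.EtFound

attribute [local instance] EtFound.pull_preservesFiniteLimits

variable {X : Scheme.{u}}

theorem isLTorsion_of_killed {F : EtCoh.Ab X} (ℓ a : ℕ) (h : (ℓ ^ a) • 𝟙 F = 0) : EtDepth.IsLTorsion ℓ F :=
  fun U s x => ⟨U, 𝟙 U, ⟨x, rfl⟩, a, H9Transfer.nsmul_sect_eq_zero h U _⟩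

theorem isTorsion_of_isLTorsion {F : EtCoh.Ab X} {ℓ : ℕ} (hℓ : ℓ.Prime) (h : EtDepth.IsLTorsion ℓ F) :
    EtCoh.IsTorsion F := fun U s x => by
  obtain ⟨V, g, hv, k, hk⟩ := h U s x
  exact ⟨V, g, hv, isOfFinAddOrder_iff_nsmul_eq_zero.2 ⟨ℓ ^ k, pow_pos hℓ.pos k, hk⟩⟩

theorem exists_pow_kills_hom {G C : EtCoh.Ab X} {ℓ : ℕ} (hℓ : ℓ.Prime) (hG : EtDepth.IsLTorsion ℓ G) (n : ℕ)
    (hn : 0 < n) (hC : n • 𝟙 C = 0) (g : C ⟶ G) : ∃ a, (ℓ ^ a) • g = 0 := by
  obtain ⟨a, m, hm, rfl⟩ := Nat.exists_eq_pow_mul_and_not_dvd hn.ne' ℓ hℓ.ne_one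
  refine ⟨a, Sheaf.hom_ext (NatTrans.ext (funext fun V => AddCommGrpCat.ext fun s => ?_))⟩
  refine (nsmul_hom_app g (ℓ ^ a) V.unop s).trans ?_
  refine EtLim8.eq_zero_of_nullLocus fun x => ?_
  obtain ⟨W, q, ⟨w, hw⟩, k, hk⟩ := hG V.unop ((ℓ ^ a) • g.hom.app V s) x
  refine ⟨W, q, w, hw, ?_⟩
  have h1 : m • (G.obj.map q.op ((ℓ ^ a) • g.hom.app V s)) = 0 := by
    have h2 : (ℓ ^ a * m) • g.hom.app V s = 0 :=
      (map_nsmul (g.hom.app V).hom _ s).symm.trans
        ((congrArg (g.hom.app V).hom (H9Transfer.nsmul_sect_eq_zero hC V.unop s)).trans (map_zero _))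
    rw [← map_nsmul, ← mul_smul, mul_comm, h2, map_zero]
  have h3 : addOrderOf (G.obj.map q.op ((ℓ ^ a) • g.hom.app V s)) ∣ Nat.gcd (ℓ ^ k) m :=
    Nat.dvd_gcd (addOrderOf_dvd_iff_nsmul_eq_zero.2 hk) (addOrderOf_dvd_iff_nsmul_eq_zero.2 h1)
  rw [((hℓ.coprime_iff_not_dvd.2 hm).pow_left k).gcd_eq_one, Nat.dvd_one] at h3
  exact AddMonoid.addOrderOf_eq_one_iff.1 h3

theorem exists_pow_kills {F : EtCoh.Ab X} [CompactSpace X] [QuasiSeparatedSpace X] {ℓ : ℕ} (hℓ : ℓ.Prime)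
    (hF : EtDepth.IsLTorsion ℓ F) (hFc : EtPBC.IsConstructible F) : ∃ a, (ℓ ^ a) • 𝟙 F = 0 := by
  obtain ⟨n, hn, hC⟩ := exists_killedBy X hFc
  exact exists_pow_kills_hom hℓ hF n hn hC (𝟙 F)

/-- it is enough to kill the cohomology of constructible sheaves killed by a power of `ℓ` -/
theorem subsingleton_H_of_constructible [CompactSpace X] [QuasiSeparatedSpace X] {ℓ : ℕ} (hℓ : ℓ.Prime) (q : ℕ)
    (h : ∀ (C : EtCoh.Ab X) (a : ℕ), EtPBC.IsConstructible C → (ℓ ^ a) • 𝟙 C = 0 → Subsingleton (EtCoh.H X C q))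
    (G : EtCoh.Ab X) (hG : EtDepth.IsLTorsion ℓ G) : Subsingleton (EtCoh.H X G q) := by
  haveI := EtLC12.QcqsAcyclic.preservesColimitsOfShape_HF X q (TorsionInd.J G)
  let hc := isColimitOfPreserves (EtCoh.HF X q) (TorsionInd.isColimit G (isTorsion_of_isLTorsion hℓ hG))
  refine subsingleton_of_forall_eq 0 fun ξ => ?_
  obtain ⟨j, a, rfl⟩ := Concrete.isColimit_exists_rep _ hc ξ
  obtain ⟨n, hn, hC⟩ := exists_killedBy X (TorsionInd.isConstructible_D G j)
  obtain ⟨e, he⟩ := exists_pow_kills_hom hℓ hG n hn hC j.hom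
  let C := (TorsionInd.D G).obj j
  let m : C ⟶ C := (ℓ ^ e) • 𝟙 C
  have hm : m ≫ j.hom = 0 := by
    show ((ℓ ^ e) • 𝟙 C) ≫ j.hom = 0
    rw [Preadditive.nsmul_comp, Category.id_comp, he]
  have hQ : EtPBC.IsConstructible (cokernel m) :=
    isConstructible_cokernel m (TorsionInd.isConstructible_D G j) (TorsionInd.isConstructible_D G j)
  have hk : (ℓ ^ e) • 𝟙 (cokernel m) = 0 := by
    rw [← cancel_epi (cokernel.π m), comp_zero, Preadditive.comp_nsmul, Category.comp_id]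
    have := cokernel.condition m
    rwa [show m ≫ cokernel.π m = (ℓ ^ e) • cokernel.π m by
      show ((ℓ ^ e) • 𝟙 C) ≫ cokernel.π m = _
      rw [Preadditive.nsmul_comp, Category.id_comp]] at this
  haveI := h _ e hQ hk
  have hfac : (EtCoh.HF X q).map ((TorsionInd.cocone G).ι.app j) =
      (EtCoh.HF X q).map (cokernel.π m) ≫ (EtCoh.HF X q).map (cokernel.desc m j.hom hm) := by
    rw [← Functor.map_comp, cokernel.π_desc]
    rfl
  refine (ConcreteCategory.congr_hom hfac a).trans ?_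
  refine (congrArg ((EtCoh.HF X q).map (cokernel.desc m j.hom hm)) (Subsingleton.elim
    (α := EtCoh.H X (cokernel m) q) ((EtCoh.HF X q).map (cokernel.π m) a) 0)).trans ?_
  exact map_zero _

theorem nontrivial_of_not_isZero (K L : Type u) [Field K] [Field L] [Algebra K L]
    (F : EtCoh.Ab (Spec (CommRingCat.of K))) (hF : ¬ IsZero F) [Surjective (sm K L)] (M : Type) [AddCommGroup M]
    (e : (EtCoh.pull (sm K L)).obj F ≅ EtCoh.const (Spec (CommRingCat.of L)) M) : Nontrivial M := by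
  by_contra hM
  rw [not_nontrivial_iff_subsingleton] at hM
  haveI := EtFound.pullback_faithful (A := AddCommGrpCat.{u + 1}) (sm K L)
  haveI := (EtCoh.pullPushAdj (sm K L)).left_adjoint_additive
  have h0 : 1 • 𝟙 ((EtCoh.pull (sm K L)).obj F) = 0 :=
    killed_of_iso e.symm 1 (killed_const _ 1 fun x => Subsingleton.elim _ _)
  refine hF ((IsZero.iff_id_eq_zero F).2 ((EtCoh.pull (sm K L)).map_injective ?_))
  rw [CategoryTheory.Functor.map_id, Functor.map_zero]
  rwa [one_nsmul] at h0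

theorem nontrivial_H0_const (M : Type) [AddCommGroup M] [Nonempty X] [Nontrivial M] :
    Nontrivial (EtCoh.H X (EtCoh.const X M) 0) := by
  obtain ⟨m, hm⟩ := exists_ne (0 : M)
  refine ⟨Ext.mk₀ (constHom X (zmultiplesHom M m)), 0, fun h => hm ?_⟩
  rw [← Ext.mk₀_zero] at h
  have h1 := (Ext.mk₀_bijective _ _).1 h
  obtain ⟨x⟩ := ‹Nonempty X›
  obtain ⟨Ω, _, _, ξ, z, -⟩ := exists_algClosed_point (EtCoh.top X) x
  let N : AddCommGrpCat.{u + 1} := AddCommGrpCat.of (ULift.{u + 1} M)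
  have hb := ConstVal.constBy_const X N (EtCoh.top X) Ω ξ z
  let f := (AddCommGrpCat.ofHom ((AddEquiv.ulift.{0, u + 1}.symm.toAddMonoidHom.comp (zmultiplesHom M m)).comp
    AddEquiv.ulift.toAddMonoidHom) : AddCommGrpCat.of (ULift.{u + 1} ℤ) ⟶ N)
  have n := (EtCore.constAdj X).unit.naturality f
  have hn : (EtCore.constAdj X).unit.app N (f ⟨1⟩) = 0 := by
    refine (ConcreteCategory.congr_hom n ⟨1⟩).trans ?_
    show ((EtCore.gsec X).map ((constF X).map f)) _ = 0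
    rw [show (constF X).map f = 0 from h1]
    rfl
  have hf : f ⟨1⟩ = 0 := hb.1 (a₁ := f ⟨1⟩) (a₂ := 0) (by
    rw [map_zero]
    exact (congrArg _ hn).trans (AddMonoidHom.map_zero _))
  exact (one_zsmul m).symm.trans (congrArg ULift.down hf)

theorem main (K : Type u) [Field K] (ℓ : ℕ) (hℓ : ℓ.Prime) (F : EtCoh.Ab (Spec (CommRingCat.of K)))
    (hF : EtDepth.IsLTorsion ℓ F) (hFc : EtPBC.IsConstructible F) (hF0 : ¬ IsZero F) (n : ℕ)
    (hcd : EtDepth.CohDimLLE (Spec (CommRingCat.of K)) ℓ n)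
    (hcd' : ∀ d : ℕ, d < n → ¬ EtDepth.CohDimLLE (Spec (CommRingCat.of K)) ℓ d) :
    ∃ (L : Type u) (_ : Field L) (_ : Algebra K L) (_ : Module.Finite K L) (_ : Algebra.IsSeparable K L),
      Nontrivial (EtCoh.H (Spec (CommRingCat.of L)) ((EtCoh.pull (sm K L)).obj F) n) := by
  have hv : VanAbove (Spec (CommRingCat.of K)) ℓ n := fun C a hC q hq => hcd C (isLTorsion_of_killed ℓ a hC) q hq
  obtain ⟨a, ha⟩ := exists_pow_kills hℓ hF hFc
  obtain ⟨L₀, _, _, _, _, M, _, _, hMa, ⟨e₀⟩⟩ := exists_split K F hFc _ ha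
  obtain ⟨h0et, h0fin, h0surj⟩ := etale_sm K L₀
  haveI : Nontrivial M := nontrivial_of_not_isZero K L₀ F hF0 M e₀
  rcases Nat.eq_zero_or_pos n with rfl | hn
  · refine ⟨L₀, inferInstance, inferInstance, inferInstance, inferInstance, ?_⟩
    haveI : Nonempty ↥(Spec (CommRingCat.of L₀)) := ⟨default⟩
    haveI := nontrivial_H0_const (X := Spec (CommRingCat.of L₀)) M
    exact (EtAcycLib.bijective_comp_mk₀ e₀.symm).1.nontrivial
  by_contra hne
  refine hcd' (n - 1) (by omega) fun G hG q hq => ?_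
  rcases (by omega : n < q ∨ q = n) with hq' | rfl
  · exact hcd G hG q hq'
  refine subsingleton_H_of_constructible hℓ q (fun C b hC hCb => ?_) G hG
  have hv0 := vanAbove_of_finite (sm K L₀) hv
  haveI := (EtCoh.pullPushAdj (sm K L₀)).left_adjoint_additive
  have hC0 := killed_map (EtCoh.pull (sm K L₀)) C _ hCb
  refine subsingleton_H_of_pull (sm K L₀) hv C b hCb ?_
  obtain ⟨L₁, _, _, _, _, M', _, _, hM', ⟨e₁⟩⟩ :=
    exists_split L₀ _ (EtFound.isConstructible_pull (sm K L₀) hC) _ hC0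
  obtain ⟨h1et, h1fin, h1surj⟩ := etale_sm L₀ L₁
  refine subsingleton_H_of_pull (sm L₀ L₁) hv0 _ b hC0 (subsingleton_H_of_iso e₁.symm _ ?_)
  refine subsingleton_H_const ℓ hℓ q ?_ _ M' b hM' rfl
  refine subsingleton_H_zmod ℓ hℓ q (vanAbove_of_finite (sm L₀ L₁) hv0) M a hMa ?_
  letI : Algebra K L₁ := ((algebraMap L₀ L₁).comp (algebraMap K L₀)).toAlgebra
  haveI : IsScalarTower K L₀ L₁ := .of_algebraMap_eq' rfl
  haveI : Module.Finite K L₁ := Module.Finite.trans L₀ L₁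
  haveI : Algebra.IsSeparable K L₁ := Algebra.IsSeparable.trans K L₀ L₁
  have hw : sm L₀ L₁ ≫ sm K L₀ = sm K L₁ := by
    rw [← Spec.map_comp]
    rfl
  let e : (EtCoh.pull (sm K L₁)).obj F ≅ EtCoh.const (Spec (CommRingCat.of L₁)) M :=
    (EtCore.pullCongr hw.symm ≪≫ EtCore.pullComp (sm L₀ L₁) (sm K L₀)).app F ≪≫
      (EtCoh.pull (sm L₀ L₁)).mapIso e₀ ≪≫ EtCore.pullConst (sm L₀ L₁) M
  refine subsingleton_H_of_iso e q (not_nontrivial_iff_subsingleton.1 fun hnt => hne ?_)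
  exact ⟨L₁, inferInstance, inferInstance, inferInstance, inferInstance, hnt⟩

end Groth.Agent.GalCd5
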