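import Groth.Agent.FinEtTrace5.Main
import Groth.Agent.EtMVLib.ExtTools
import Groth.Agent.EtAcycLib.Compose
import Groth.Agent.EtFound.PushExact
import Groth.Agent.EtFound.PullStalk
import Groth.Agent.EtFound.JContGen
import Groth.Agent.H9Transfer.Kill
import Groth.Agent.SiteBase.ConstExact
import Mathlib.CategoryTheory.Adjunction.FullyFaithful
import Mathlib.LinearAlgebra.Dual.Lemmas

/-! cohomology in the top degree and finite etale morphisms -/

set_option autoImplicit false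
set_option linter.unusedSectionVars false
set_option linter.style.haveILetI false
set_option backward.isDefEq.respectTransparency false
set_option backward.isDefEq.respectTransparency.types false

universe u

open CategoryTheory CategoryTheory.Limits AlgebraicGeometry Opposite Abelian

noncomputable section

namespace Groth.Agent.GalCd5

attribute [local instance] EtFound.pull_preservesFiniteLimits

variable {X : Scheme.{u}}

theorem subsingleton_H_of_iso {F G : EtCoh.Ab X} (e : F ≅ G) (q : ℕ) (h : Subsingleton (EtCoh.H X F q)) :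
    Subsingleton (EtCoh.H X G q) :=
  (EtAcycLib.bijective_comp_mk₀ e).2.subsingleton

theorem subsingleton_H_of_shortExact {S : ShortComplex (EtCoh.Ab X)} (hS : S.ShortExact) (q : ℕ)
    (h1 : Subsingleton (EtCoh.H X S.X₁ q)) (h3 : Subsingleton (EtCoh.H X S.X₃ q)) :
    Subsingleton (EtCoh.H X S.X₂ q) := by
  refine subsingleton_of_forall_eq 0 fun x => ?_
  obtain ⟨y, rfl⟩ := Ext.covariant_sequence_exact₂ _ hS x (h3.elim _ _)
  rw [h1.elim y 0, Ext.zero_comp]

theorem subsingleton_H_of_epi {A B : EtCoh.Ab X} (f : A ⟶ B) [Epi f] (n : ℕ)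
    (hA : Subsingleton (EtCoh.H X A n)) (hK : Subsingleton (EtCoh.H X (kernel f) (n + 1))) :
    Subsingleton (EtCoh.H X B n) := by
  let S := ShortComplex.mk (kernel.ι f) f (kernel.condition f)
  have hS : S.ShortExact := { exact := ShortComplex.exact_of_f_is_kernel _ (kernelIsKernel f) }
  refine subsingleton_of_forall_eq 0 fun x => ?_
  obtain ⟨y, rfl⟩ := Ext.covariant_sequence_exact₃ _ hS x (rfl : n + 1 = n + 1) (hK.elim _ _)
  rw [hA.elim y 0, Ext.zero_comp]

theorem killed_kernel {A B : EtCoh.Ab X} (f : A ⟶ B) (N : ℕ) (hA : N • 𝟙 A = 0) : N • 𝟙 (kernel f) = 0 := by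
  rw [← cancel_mono (kernel.ι f), zero_comp, Preadditive.nsmul_comp, Category.id_comp, ← Category.comp_id (kernel.ι f),
    ← Preadditive.comp_nsmul, hA, comp_zero]

theorem killed_map {Y : Scheme.{u}} (F : EtCoh.Ab X ⥤ EtCoh.Ab Y) [F.Additive] (A : EtCoh.Ab X) (N : ℕ)
    (hA : N • 𝟙 A = 0) : N • 𝟙 (F.obj A) = 0 := by
  rw [← F.map_id, ← F.map_nsmul, hA, F.map_zero]

theorem killed_of_iso {A B : EtCoh.Ab X} (e : A ≅ B) (N : ℕ) (hA : N • 𝟙 A = 0) : N • 𝟙 B = 0 := by
  rw [← e.inv_hom_id, ← Preadditive.nsmul_comp, ← Category.comp_id (N • e.inv), Preadditive.nsmul_comp, ← Preadditive.comp_nsmul,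
    hA, comp_zero, zero_comp]

/-- vanishing above `n` for sheaves killed by a power of `ℓ` -/
def VanAbove (X : Scheme.{u}) (ℓ n : ℕ) : Prop :=
  ∀ (F : EtCoh.Ab X) (a : ℕ), (ℓ ^ a) • 𝟙 F = 0 → ∀ q, n < q → Subsingleton (EtCoh.H X F q)

section push

variable {X' : Scheme.{u}} (π : X' ⟶ X) [IsFinite π]

theorem subsingleton_H_push_iff (G : EtCoh.Ab X') (q : ℕ) :
    Subsingleton (EtCoh.H X ((EtCoh.push π).obj G) q) ↔ Subsingleton (EtCoh.H X' G q) := by
  haveI := EtFound.push_preservesFiniteLimits π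
  haveI := EtFound.push_preservesFiniteColimits π
  have h1 := EtMVLib.adjExtMap_bijective (EtCoh.pullPushAdj π) (EtCoh.const X ℤ) G q
  have h2 := EtAcycLib.bijective_mk₀_comp (B := G) (n := q) (EtCore.pullConst π ℤ)
  exact ⟨fun h => ⟨fun a b => h2.1 (h1.1 (h.elim _ _))⟩, fun h => ⟨fun a b => by
    obtain ⟨a', rfl⟩ := h1.2 a
    obtain ⟨a'', rfl⟩ := h2.2 a'
    obtain ⟨b', rfl⟩ := h1.2 b
    obtain ⟨b'', rfl⟩ := h2.2 b'
    rw [h.elim a'' b'']⟩⟩

include π in
theorem vanAbove_of_finite {ℓ n : ℕ} (h : VanAbove X ℓ n) : VanAbove X' ℓ n := fun G a hG q hq =>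
  (subsingleton_H_push_iff π G q).1 (h _ a (killed_map (EtCoh.push π) G _ hG) q hq)

theorem subsingleton_H_of_pull [AlgebraicGeometry.Etale π] [Surjective π] {ℓ n : ℕ} (h : VanAbove X ℓ n)
    (C : EtCoh.Ab X) (a : ℕ) (hC : (ℓ ^ a) • 𝟙 C = 0)
    (hsub : Subsingleton (EtCoh.H X' ((EtCoh.pull π).obj C) n)) : Subsingleton (EtCoh.H X C n) := by
  haveI := EtFound.jCont π
  haveI := EtFound.pullback_faithful (A := AddCommGrpCat.{u + 1}) π
  haveI := (EtCoh.pullPushAdj π).left_adjoint_additive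
  haveI : Epi ((FinEtTrace5.trAdj π).counit.app C) := inferInstance
  refine subsingleton_H_of_epi ((FinEtTrace5.trAdj π).counit.app C) n ((subsingleton_H_push_iff π _ n).2 hsub) ?_
  exact h _ a (killed_kernel _ _ (killed_map (EtCoh.push π) _ _ (killed_map (EtCoh.pull π) C _ hC))) _ (Nat.lt_succ_self n)

end push

section const

/-- constant sheaves -/
abbrev constF (X : Scheme.{u}) : AddCommGrpCat.{u + 1} ⥤ EtCoh.Ab X :=
  constantSheaf X.smallEtaleTopology AddCommGrpCat.{u + 1}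

theorem constF_preservesFiniteLimits (X : Scheme.{u}) : PreservesFiniteLimits (constF X) := by
  haveI : PreservesFiniteLimits (Functor.const (X.Etaleᵒᵖ) : AddCommGrpCat.{u + 1} ⥤ _) := inferInstance
  exact comp_preservesFiniteLimits _ _

variable {M N : Type} [AddCommGroup M] [AddCommGroup N]

/-- the map of constant sheaves -/
abbrev constHom (X : Scheme.{u}) (ψ : M →+ N) : EtCoh.const X M ⟶ EtCoh.const X N :=
  (constF X).map (AddCommGrpCat.ofHom
    ((AddEquiv.ulift.{0, u + 1}.symm.toAddMonoidHom.comp ψ).comp AddEquiv.ulift.toAddMonoidHom))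

theorem shortExact_const (X : Scheme.{u}) (ψ : M →+ N) (hψ : Function.Surjective ψ) :
    ∃ (w : constHom X ψ.ker.subtype ≫ constHom X ψ = 0),
      (ShortComplex.mk (constHom X ψ.ker.subtype) (constHom X ψ) w).ShortExact := by
  haveI := constF_preservesFiniteLimits X
  haveI : PreservesFiniteColimits (constF X) :=
    haveI := (EtCore.constAdj X).leftAdjoint_preservesColimits; inferInstance
  haveI := constF_preservesFiniteLimits X
  haveI : (constF X).Additive := Functor.additive_of_preserves_binary_products _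
  let f : AddCommGrpCat.of (ULift.{u + 1} ψ.ker) ⟶ AddCommGrpCat.of (ULift.{u + 1} M) := AddCommGrpCat.ofHom
    ((AddEquiv.ulift.{0, u + 1}.symm.toAddMonoidHom.comp ψ.ker.subtype).comp AddEquiv.ulift.toAddMonoidHom)
  let g : AddCommGrpCat.of (ULift.{u + 1} M) ⟶ AddCommGrpCat.of (ULift.{u + 1} N) := AddCommGrpCat.ofHom
    ((AddEquiv.ulift.{0, u + 1}.symm.toAddMonoidHom.comp ψ).comp AddEquiv.ulift.toAddMonoidHom)
  have w : f ≫ g = 0 := AddCommGrpCat.ext fun x => ULift.ext _ _ x.down.2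
  have hS : (ShortComplex.mk f g w).ShortExact :=
    { exact := (ShortComplex.ab_exact_iff _).2 fun x hx => ⟨⟨⟨x.down, congrArg ULift.down hx⟩⟩, rfl⟩
      mono_f := (AddCommGrpCat.mono_iff_injective _).2 fun a b e =>
        ULift.ext _ _ (Subtype.ext (congrArg ULift.down e))
      epi_g := (AddCommGrpCat.epi_iff_surjective _).2 fun y => by
        obtain ⟨m, hm⟩ := hψ y.down
        exact ⟨⟨m⟩, ULift.ext _ _ hm⟩ }
  exact ⟨_, hS.map_of_exact (constF X)⟩

theorem killed_const (X : Scheme.{u}) (m : ℕ) (hM : ∀ x : M, m • x = 0) : m • 𝟙 (EtCoh.const X M) = 0 := by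
  haveI := constF_preservesFiniteLimits X
  haveI : (constF X).Additive := Functor.additive_of_preserves_binary_products _
  have : m • 𝟙 (AddCommGrpCat.of (ULift.{u + 1} M)) = 0 := AddCommGrpCat.ext fun x => by
    refine ULift.ext _ _ ?_
    show (((m • 𝟙 (AddCommGrpCat.of (ULift.{u + 1} M)) : _ ⟶ _).hom : _ →+ _) x).down = 0
    exact hM x.down
  show m • 𝟙 ((constF X).obj _) = 0
  rw [← (constF X).map_id, ← (constF X).map_nsmul, this, (constF X).map_zero]

end const

theorem exists_dual_ne_zero' (ℓ : ℕ) [Fact ℓ.Prime] (V : Type) [AddCommGroup V] [Module (ZMod ℓ) V] {x : V}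
    (hx : x ≠ 0) : ∃ φ : V →+ ZMod ℓ, φ x ≠ 0 ∧ ∀ (c : ZMod ℓ) (v : V), φ (c • v) = c * φ v :=
  let ⟨f, hf⟩ := Module.Projective.exists_dual_ne_zero (ZMod ℓ) hx
  ⟨f.toAddMonoidHom, hf, fun c v => f.map_smul c v⟩

theorem exists_surjection_zmod (ℓ : ℕ) (hℓ : ℓ.Prime) (M : Type) [AddCommGroup M] [Nontrivial M] (a : ℕ)
    (ha : ∀ x : M, (ℓ ^ a) • x = 0) : ∃ ψ : M →+ ZMod ℓ, Function.Surjective ψ := by
  haveI : Fact ℓ.Prime := ⟨hℓ⟩
  let L : AddSubgroup M := (nsmulAddMonoidHom ℓ).range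
  have hL : L ≠ ⊤ := fun h => by
    obtain ⟨x, hx⟩ := exists_ne (0 : M)
    have key : ∀ (k : ℕ) (y : M), ∃ z, (ℓ ^ k) • z = y := by
      intro k
      induction k with
      | zero => exact fun y => ⟨y, by simp⟩
      | succ k ih =>
        intro y
        obtain ⟨z, hz⟩ := ih y
        obtain ⟨w, hw⟩ : z ∈ L := h ▸ AddSubgroup.mem_top z
        exact ⟨w, by rw [pow_succ, mul_smul, ← hz, ← hw]; rfl⟩
    obtain ⟨z, hz⟩ := key a x
    exact hx (hz.symm.trans (ha z))
  obtain ⟨y, hy⟩ : ∃ y, y ∉ L := by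
    by_contra hc
    exact hL ((AddSubgroup.eq_top_iff' L).2 fun y => by_contra fun hy => hc ⟨y, hy⟩)
  letI : Module (ZMod ℓ) (M ⧸ L) := AddCommGroup.zmodModule fun q => by
    obtain ⟨m, rfl⟩ := QuotientAddGroup.mk_surjective q
    exact (QuotientAddGroup.eq_zero_iff _).2 ⟨m, rfl⟩
  have hy' : (y : M ⧸ L) ≠ 0 := fun h => hy ((QuotientAddGroup.eq_zero_iff y).1 h)
  obtain ⟨φ, hφ, hsmul⟩ := exists_dual_ne_zero' ℓ (M ⧸ L) hy'
  refine ⟨φ.comp (QuotientAddGroup.mk' L), fun z => ?_⟩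
  obtain ⟨w, hw⟩ := QuotientAddGroup.mk_surjective ((z * (φ (y : M ⧸ L))⁻¹) • (y : M ⧸ L))
  refine ⟨w, ?_⟩
  show φ (w : M ⧸ L) = z
  rw [hw, hsmul, mul_assoc, inv_mul_cancel₀ hφ, mul_one]

theorem killed_zmod (ℓ : ℕ) (x : ZMod ℓ) : (ℓ ^ 1) • x = 0 := by
  rw [pow_one, nsmul_eq_mul, ZMod.natCast_self, zero_mul]

theorem subsingleton_H_const (ℓ : ℕ) (hℓ : ℓ.Prime) (n : ℕ)
    (h : Subsingleton (EtCoh.H X (EtCoh.const X (ZMod ℓ)) n)) :
    ∀ (c : ℕ) (M : Type) [AddCommGroup M] [Finite M] (a : ℕ), (∀ x : M, (ℓ ^ a) • x = 0) → Nat.card M = c →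
      Subsingleton (EtCoh.H X (EtCoh.const X M) n) := by
  intro c
  induction c using Nat.strong_induction_on with
  | _ c ih =>
    intro M _ _ a ha hc
    rcases subsingleton_or_nontrivial M with hM | hM
    · have h0 : 1 • 𝟙 (EtCoh.const X M) = 0 := killed_const X 1 fun x => Subsingleton.elim _ _
      rw [one_nsmul] at h0
      refine subsingleton_of_forall_eq 0 fun x => ?_
      rw [← Ext.comp_mk₀_id x, h0, Ext.mk₀_zero, Ext.comp_zero]
    · obtain ⟨ψ, hψ⟩ := exists_surjection_zmod ℓ hℓ M a ha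
      obtain ⟨w, hS⟩ := shortExact_const X ψ hψ
      refine subsingleton_H_of_shortExact hS n ?_ h
      refine ih _ ?_ ψ.ker a (fun x => Subtype.ext (ha x.1)) rfl
      have e := AddSubgroup.card_eq_card_quotient_mul_card_addSubgroup ψ.ker
      have e' : Nat.card (M ⧸ ψ.ker) = ℓ := by
        rw [Nat.card_congr (QuotientAddGroup.quotientKerEquivOfSurjective ψ hψ).toEquiv, Nat.card_zmod]
      rw [e', hc] at e
      rw [e]
      exact lt_mul_of_one_lt_left Nat.card_pos hℓ.one_lt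

theorem subsingleton_H_zmod (ℓ : ℕ) (hℓ : ℓ.Prime) (n : ℕ) (hv : VanAbove X ℓ n) (M : Type) [AddCommGroup M]
    [Nontrivial M] (a : ℕ) (ha : ∀ x : M, (ℓ ^ a) • x = 0) (h : Subsingleton (EtCoh.H X (EtCoh.const X M) n)) :
    Subsingleton (EtCoh.H X (EtCoh.const X (ZMod ℓ)) n) := by
  obtain ⟨ψ, hψ⟩ := exists_surjection_zmod ℓ hℓ M a ha
  obtain ⟨w, hS⟩ := shortExact_const X ψ hψ
  haveI : Epi (constHom X ψ) := hS.epi_g
  exact subsingleton_H_of_epi (constHom X ψ) n h
    (hv _ a (killed_kernel _ _ (killed_const X _ ha)) _ (Nat.lt_succ_self n))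

end Groth.Agent.GalCd5
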