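import Groth.Agent.GalCd5.Basic
import Groth.Agent.EtFound.LocConst
import Groth.Agent.EtFound.PullConst
import Groth.Agent.EtFound.ConstVal
import Groth.Agent.EtFound.FieldExt
import Groth.Agent.EtFound.Presentation
import Mathlib.AlgebraicGeometry.Morphisms.ClosedImmersion
import Mathlib.RingTheory.Unramified.Field

/-! constructible sheaves on the spectrum of a field become constant over a finite separable extension -/

set_option autoImplicit false
set_option linter.unusedSectionVars false
set_option linter.style.haveILetI false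
set_option backward.isDefEq.respectTransparency false
set_option backward.isDefEq.respectTransparency.types false

universe u

open CategoryTheory CategoryTheory.Limits AlgebraicGeometry Opposite Abelian

noncomputable section

namespace Groth.Agent.GalCd5

open Groth.Agent.EtFound

attribute [local instance] EtFound.pull_preservesFiniteLimits

/-- the morphism of spectra of an extension -/
abbrev sm (K L : Type u) [Field K] [Field L] [Algebra K L] :
    Spec (CommRingCat.of L) ⟶ Spec (CommRingCat.of K) := Spec.map (CommRingCat.ofHom (algebraMap K L))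

theorem etale_sm (K L : Type u) [Field K] [Field L] [Algebra K L] [Module.Finite K L] [Algebra.IsSeparable K L] :
    AlgebraicGeometry.Etale (sm K L) ∧ IsFinite (sm K L) ∧ Surjective (sm K L) := by
  haveI : Algebra.FinitePresentation K L := Algebra.FinitePresentation.of_finiteType.1 inferInstance
  haveI : Algebra.FormallyEtale K L := Algebra.FormallyEtale.of_isSeparable K L
  haveI : Algebra.Etale K L := ⟨inferInstance, inferInstance⟩
  refine ⟨(HasRingHomProperty.Spec_iff (P := @AlgebraicGeometry.Etale)).2 (RingHom.etale_algebraMap.2 ‹_›),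
    (IsFinite.SpecMap_iff _).2 (RingHom.finite_algebraMap.2 ‹_›), ⟨fun x => ⟨default, Subsingleton.elim _ _⟩⟩⟩

theorem exists_point_field (K : Type u) [Field K] {U : Scheme.{u}} (k : U ⟶ Spec (CommRingCat.of K))
    [AlgebraicGeometry.Etale k] (p : U) :
    ∃ (L : Type u) (_ : Field L) (_ : Algebra K L) (_ : Module.Finite K L) (_ : Algebra.IsSeparable K L)
      (l : Spec (CommRingCat.of L) ⟶ U), l ≫ k = sm K L := by
  obtain ⟨A, j, hj, ⟨q, -⟩, -⟩ := Scheme.exists_affine_mem_range_and_range_subset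
    (x := p) (U := (⊤ : U.Opens)) (by simp)
  obtain ⟨φ, hφ⟩ := Spec.map_surjective (j ≫ k)
  algebraize [φ.hom]
  haveI : Algebra.Etale K A := by
    have h : AlgebraicGeometry.Etale (Spec.map φ) := by rw [hφ]; infer_instance
    exact (HasRingHomProperty.Spec_iff (P := @AlgebraicGeometry.Etale)).mp h
  haveI : Module.Finite K A := Algebra.FormallyUnramified.finite_of_free (R := K) (S := A)
  let I : Ideal A := q.asIdeal
  haveI : IsDomain (A ⧸ I) := Ideal.Quotient.isDomain I
  haveI : Module.Finite K (A ⧸ I) := Module.Finite.of_surjective (Ideal.Quotient.mkₐ K I).toLinearMap Ideal.Quotient.mk_surjective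
  letI : Field (A ⧸ I) := (isField_of_isIntegral_of_isField' (R := K) (S := A ⧸ I) (Field.toIsField K)).toField
  haveI : Algebra.FormallyUnramified K (A ⧸ I) :=
    Algebra.FormallyUnramified.of_surjective (Ideal.Quotient.mkₐ K I) Ideal.Quotient.mk_surjective
  refine ⟨A ⧸ I, inferInstance, inferInstance, inferInstance, Algebra.FormallyUnramified.isSeparable K (A ⧸ I),
    Spec.map (CommRingCat.ofHom (Ideal.Quotient.mk I)) ≫ j, ?_⟩
  rw [Category.assoc, ← hφ, ← Spec.map_comp]
  rfl

variable {X : Scheme.{u}}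

theorem exists_iso_const_of_constBy {G : EtCoh.Ab X} (M : Type) [AddCommGroup M]
    (φ : AddCommGrpCat.of (ULift.{u + 1} M) ⟶ G.obj.obj (op (EtCoh.top X))) (h : ConstBy G φ) :
    Nonempty (G ≅ EtCoh.const X M) := by
  let ψ := ((EtCore.constAdj X).homEquiv _ _).symm φ
  let c := ((EtCore.constAdj X).unit.app (AddCommGrpCat.of (ULift.{u + 1} M)))
  have hc : c ≫ (EtCore.gsec X).map ψ = φ :=
    ((EtCore.constAdj X).homEquiv_unit _ _ _).symm.trans (Equiv.apply_symm_apply _ _)
  suffices IsIso ψ from ⟨(asIso ψ).symm⟩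
  refine (EtFound.isIso_iff_stalks _).2 fun Ω₀ _ _ ξ₀ => ?_
  let Ω := AlgebraicClosure Ω₀
  let l : Spec (CommRingCat.of Ω) ⟶ Spec (CommRingCat.of Ω₀) := Spec.map (CommRingCat.ofHom (algebraMap Ω₀ Ω))
  suffices h1 : IsIso ((EtCoh.stalk (l ≫ ξ₀)).map ψ) from
    (NatIso.isIso_map_iff (stalkExtIso AddCommGrpCat.{u + 1} ξ₀ l) ψ).2 h1
  let ξ := l ≫ ξ₀
  let z : (Scheme.pointSmallEtale ξ).fiber.obj (EtCoh.top X) := CategoryTheory.Over.homMk ξ (Category.comp_id _)
  refine (ConcreteCategory.isIso_iff_bijective _).2 ?_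
  have h0 : Function.Bijective fun m => (Scheme.pointSmallEtale ξ).toPresheafFiber (EtCoh.top X) z
      (EtCoh.const X M).obj (c m) := ConstVal.constBy_const X (AddCommGrpCat.of (ULift.{u + 1} M)) (EtCoh.top X) Ω ξ z
  refine (Function.Bijective.of_comp_iff _ h0).1 ?_
  refine Eq.mp (congrArg Function.Bijective (funext fun m => ?_)) (h Ω ξ z)
  show (Scheme.pointSmallEtale ξ).toPresheafFiber (EtCoh.top X) z G.obj (φ m) = _
  rw [← hc]
  exact ((Scheme.pointSmallEtale ξ).toPresheafFiber_naturality_apply ψ.hom _ _ _).symm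

theorem exists_split (K : Type u) [Field K] (F : EtCoh.Ab (Spec (CommRingCat.of K))) (hF : EtPBC.IsConstructible F)
    (m : ℕ) (hm : m • 𝟙 F = 0) :
    ∃ (L : Type u) (_ : Field L) (_ : Algebra K L) (_ : Module.Finite K L) (_ : Algebra.IsSeparable K L)
      (M : Type) (_ : AddCommGroup M) (_ : Finite M), (∀ x : M, m • x = 0) ∧
        Nonempty ((EtCoh.pull (sm K L)).obj F ≅ EtCoh.const (Spec (CommRingCat.of L)) M) := by
  obtain ⟨r, T, g, himm, -, -, hU, hflc⟩ := hF ⊤ (isAffineOpen_top _)
  obtain ⟨i, t, ht⟩ : ∃ i, ∃ t : T i, (g i).base t = (default : Spec (CommRingCat.of K)) := by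
    have : (default : Spec (CommRingCat.of K)) ∈ ⋃ i, Set.range (g i) := by rw [hU]; trivial
    exact Set.mem_iUnion.1 this
  haveI := himm i
  haveI : Surjective (g i) := ⟨fun x => ⟨t, Subsingleton.elim _ _⟩⟩
  haveI : IsClosedImmersion (g i) := IsClosedImmersion.of_isPreimmersion _
    (by rw [Set.range_eq_univ.2 (g i).surjective]; exact isClosed_univ)
  haveI : IsIso (g i) := isIso_of_isClosedImmersion_of_surjective _
  obtain ⟨ι, U, hcov, hiso⟩ := hflc i
  obtain ⟨i₀, p, -⟩ := hcov t
  obtain ⟨M, iM, fM, ⟨e⟩⟩ := hiso i₀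
  obtain ⟨φ, hφ⟩ := exists_constBy e
  haveI : AlgebraicGeometry.Etale (U i₀).hom := (U i₀).prop
  obtain ⟨L, _, _, _, _, l, hl⟩ := exists_point_field K ((U i₀).hom ≫ g i) p
  let h : Spec (CommRingCat.of L) ⟶ T i := l ≫ (U i₀).hom
  let F₁ := (EtCoh.pull (g i)).obj F
  let G := (EtCoh.pull h).obj F₁
  let s : EtCoh.top (Spec (CommRingCat.of L)) ⟶ (EtCoh.bc h).obj (U i₀) :=
    MorphismProperty.Over.homMk (pullback.lift l (𝟙 _) (Category.id_comp _).symm) (pullback.lift_snd _ _ _) trivial
  have hG := (constBy_pull h hφ).restrict s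
  obtain ⟨eG⟩ := exists_iso_const_of_constBy M _ hG
  have hgh : h ≫ g i = sm K L := by rw [← hl]; exact Category.assoc _ _ _
  let eF : (EtCoh.pull (sm K L)).obj F ≅ EtCoh.const (Spec (CommRingCat.of L)) M :=
    ((EtCore.pullCongr hgh.symm ≪≫ EtCore.pullComp h (g i)).app F) ≪≫ eG
  refine ⟨L, inferInstance, inferInstance, inferInstance, inferInstance, M, iM, fM, fun x => ?_, ⟨eF⟩⟩
  haveI := (EtCoh.pullPushAdj (sm K L)).left_adjoint_additive
  have hk := killed_of_iso eF m (killed_map (EtCoh.pull (sm K L)) F m hm)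
  let X' := Spec (CommRingCat.of L)
  let Ω := AlgebraicClosure L
  let ξ : Spec (CommRingCat.of Ω) ⟶ X' := Spec.map (CommRingCat.ofHom (algebraMap L Ω))
  let z : (Scheme.pointSmallEtale ξ).fiber.obj (EtCoh.top X') := CategoryTheory.Over.homMk ξ (Category.comp_id _)
  have hb := ConstVal.constBy_const X' (AddCommGrpCat.of (ULift.{u + 1} M)) (EtCoh.top X') Ω ξ z
  let C : AddCommGrpCat.of (ULift.{u + 1} M) ⟶ (EtCoh.const X' M).obj.obj (op (EtCoh.top X')) :=
    (toSheafify X'.smallEtaleTopology ((Functor.const X'.Etaleᵒᵖ).obj _)).app (op (EtCoh.top X'))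
  have h0 : C (m • (⟨x⟩ : ULift.{u + 1} M)) = 0 :=
    (map_nsmul C.hom m _).trans (H9Transfer.nsmul_sect_eq_zero hk _ _)
  refine congrArg ULift.down (hb.1 (a₁ := m • (⟨x⟩ : ULift.{u + 1} M)) (a₂ := 0) ?_)
  rw [map_zero]
  exact (congrArg _ h0).trans (AddMonoidHom.map_zero _)

end Groth.Agent.GalCd5
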